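import Groth.Agent.EtFound.QcqsCech
import Groth.Agent.EtFound.FilteredSectionsGen
import Groth.Agent.ProEtLib.Basic
import Groth.Agent.ProEtLib.WC
import Groth.Prelude.Def_ProEtS

/-!
# Quasi-compact quasi-separated objects of the small pro-etale site
-/

universe u

open CategoryTheory CategoryTheory.Limits AlgebraicGeometry Opposite

namespace Groth.Agent.ProCoh71

set_option backward.isDefEq.respectTransparency.types false
set_option linter.style.haveILetI false

/-- Quasi-compact quasi-separated objects of the small pro-etale site. -/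
def IsQcqsP {X : Scheme.{u}} (U : X.ProEt) : Prop :=
  CompactSpace ↥U.left ∧ QuasiSeparatedSpace ↥U.left

theorem isQcqsP_of_isAffine {X : Scheme.{u}} (U : X.ProEt) [IsAffine U.left] : IsQcqsP U :=
  ⟨inferInstance, inferInstance⟩

/-- The fibre product of two qcqs objects over a qcqs object is qcqs. -/
theorem isQcqsP_pullback {X : Scheme.{u}} {U V W : X.ProEt} (a : V ⟶ U) (b : W ⟶ U)
    (hU : IsQcqsP U) (hV : IsQcqsP V) (hW : IsQcqsP W) : IsQcqsP (pullback a b) := by
  obtain ⟨-, hU₂⟩ := hU
  obtain ⟨hV₁, hV₂⟩ := hV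
  obtain ⟨hW₁, hW₂⟩ := hW
  haveI : PreservesFiniteLimits (Scheme.ProEt.forget X) := inferInstance
  haveI : PreservesLimitsOfShape WalkingCospan (Scheme.ProEt.forget X ⋙ CategoryTheory.Over.forget X) :=
    comp_preservesLimitsOfShape _ _
  let e : (pullback a b).left ≅ pullback a.left b.left :=
    PreservesPullback.iso (Scheme.ProEt.forget X ⋙ CategoryTheory.Over.forget X) a b
  haveI : QuasiCompact b.left := quasiCompact_of_compactSpace _
  haveI : QuasiSeparated b.left := inferInstance
  haveI : CompactSpace ↥(pullback a.left b.left) :=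
    QuasiCompact.compactSpace_of_compactSpace (pullback.fst a.left b.left)
  haveI : QuasiSeparatedSpace ↥(pullback a.left b.left) :=
    quasiSeparatedSpace_of_quasiSeparated (pullback.fst a.left b.left)
  exact ⟨QuasiCompact.compactSpace_of_compactSpace e.hom, quasiSeparatedSpace_of_quasiSeparated e.hom⟩

/-- finitely many quasi-compact objects jointly surjecting onto a quasi-separated object cover it -/
theorem mem_of_finite_qc {X : Scheme.{u}} {U : X.ProEt} [QuasiSeparatedSpace ↥U.left] {ι : Type*} [Finite ι]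
    (P : ι → X.ProEt) (p : ∀ k, P k ⟶ U) (hc : ∀ k, CompactSpace (P k).left)
    (hs : ∀ x, ∃ k, x ∈ Set.range (p k).left.base) :
    Sieve.ofArrows P p ∈ Scheme.ProEt.topology X U := by
  rw [ProEtLib.mem_topology_iff]
  refine ⟨_, ?_, Sieve.le_generate _⟩
  rw [ProEtLib.ofArrows_mem_precoverage_iff, ProEtLib.mem_proetalePrecoverage_iff]
  refine ⟨⟨fun {U'} hU' => IsCompactOpenCovered.of_finite_of_isSpectralMap
    (fun k => ?_) (fun x _ => hs x) U'.2 hU'.isCompact⟩, hs, fun k => ProEtLib.weaklyEtale_left (p k)⟩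
  have := hc k
  have : QuasiCompact (p k).left := quasiCompact_of_compactSpace _
  exact (p k).left.isSpectralMap

/-- Coverings of qcqs objects have finite affine refinements. -/
theorem hasFiniteRefinements_qcqs (X : Scheme.{u}) :
    EtFound.FilteredSectionsGen.HasFiniteRefinements (Scheme.ProEt.topology X) (IsQcqsP (X := X)) := by
  intro U hU S hS
  have := hU.1
  have := hU.2
  obtain ⟨T, hT, hle⟩ := (ProEtLib.mem_topology_iff _).1 hS
  obtain ⟨ι, V, g, rfl⟩ := T.exists_eq_ofArrows
  rw [ProEtLib.ofArrows_mem_precoverage_iff, ProEtLib.mem_proetalePrecoverage_iff] at hT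
  have := hT.1
  obtain ⟨n, b, Q, hQ, hcov⟩ := QuasiCompactCover.exists_isAffineOpen_of_isCompact
    (PreZeroHypercover.mk ι (fun k => (V k).left) fun k => (g k).left) (U := (⊤ : U.left.Opens))
    isCompact_univ
  have hW : ∀ k, IsQcqsP (ProEtLib.opObj (V (b k)) (Q k)) := fun k => by
    have : IsAffine (ProEtLib.opObj (V (b k)) (Q k)).left := hQ k
    exact isQcqsP_of_isAffine _
  refine ⟨n, fun k => ProEtLib.opObj (V (b k)) (Q k), fun k => ProEtLib.opHom (V (b k)) (Q k) ≫ g (b k),
    fun k => S.downward_closed (hle _ _ (Presieve.ofArrows.mk (Y := V) (f := g) (b k))) _,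
    mem_of_finite_qc _ _ (fun k => (hW k).1) (fun x => ?_), hW,
    fun k l => isQcqsP_pullback _ _ hU (hW k) (hW l)⟩
  obtain ⟨k, y, hy, hyx⟩ := Set.mem_iUnion.1 (hcov.ge (TopologicalSpace.Opens.mem_top x))
  exact ⟨k, ⟨y, hy⟩, hyx⟩

theorem preservesColimitsOfShape_sections_qcqs_ab {X : Scheme.{u}} (U : X.ProEt) (hU : IsQcqsP U)
    (I : Type (u + 1)) [SmallCategory I] [IsFiltered I] :
    PreservesColimitsOfShape I (sheafToPresheaf (Scheme.ProEt.topology X) AddCommGrpCat.{u + 1} ⋙
      (evaluation X.ProEtᵒᵖ AddCommGrpCat.{u + 1}).obj (op U)) :=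
  EtFound.FilteredSectionsGen.preservesColimitsOfShape_sections_ab.{u + 1} (I := I) (hasFiniteRefinements_qcqs X) hU

theorem isQcqsP_of_iso {X : Scheme.{u}} {U V : X.ProEt} (e : U ≅ V) (hV : IsQcqsP V) : IsQcqsP U := by
  obtain ⟨h1, h2⟩ := hV
  let φ : U.left ≅ V.left := (Scheme.ProEt.forget X ⋙ CategoryTheory.Over.forget X).mapIso e
  exact ⟨QuasiCompact.compactSpace_of_compactSpace φ.hom, quasiSeparatedSpace_of_quasiSeparated φ.hom⟩

/-- Finite products over a qcqs object of qcqs objects are qcqs. -/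
theorem isQcqsP_prod {X : Scheme.{u}} {U : X.ProEt} [HasFiniteProducts (Over U)] (hU : IsQcqsP U) :
    ∀ (n : ℕ) (Y : Fin (n + 1) → Over U), (∀ k, IsQcqsP (Y k).left) → IsQcqsP (∏ᶜ Y).left := by
  intro n
  induction n with
  | zero =>
    intro Y hY
    haveI : IsIso (Pi.π Y 0) := by
      refine ⟨Pi.lift fun k => eqToHom (by rw [Fin.fin_one_eq_zero k]), ?_, ?_⟩
      · refine Pi.hom_ext _ _ fun k => ?_
        obtain rfl := Fin.fin_one_eq_zero k
        simp
      · simp
    exact isQcqsP_of_iso ((CategoryTheory.Over.forget U).mapIso (asIso (Pi.π Y 0))) (hY 0)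
  | succ n ih =>
    intro Y hY
    haveI : HasBinaryProducts (Over U) := inferInstance
    let e : ∏ᶜ Y ≅ (Y 0 ⨯ ∏ᶜ fun k => Y (Fin.succ k)) :=
      { hom := prod.lift (Pi.π Y 0) (Pi.lift fun k => Pi.π Y (Fin.succ k))
        inv := Pi.lift (Fin.cases prod.fst fun k => prod.snd ≫ Pi.π (fun k => Y (Fin.succ k)) k)
        hom_inv_id := Pi.hom_ext _ _ fun k => by
          rw [Category.assoc, Pi.lift_π, Category.id_comp]
          induction k using Fin.cases with
          | zero => exact prod.lift_fst _ _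
          | succ k =>
            refine (Category.assoc _ _ _).symm.trans ?_
            exact (congrArg (· ≫ _) (prod.lift_snd _ _)).trans (Pi.lift_π _ _)
        inv_hom_id := by
          refine prod.hom_ext ?_ (Pi.hom_ext _ _ fun k => ?_)
          · rw [Category.assoc, Category.id_comp]
            exact (congrArg (_ ≫ ·) (prod.lift_fst _ _)).trans (Pi.lift_π _ 0)
          · rw [Category.assoc, Category.assoc, Category.id_comp]
            refine (congrArg (_ ≫ ·) ((Category.assoc _ _ _).symm.trans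
              ((congrArg (· ≫ _) (prod.lift_snd _ _)).trans (Pi.lift_π _ k)))).trans ?_
            exact Pi.lift_π _ (Fin.succ k) }
    refine isQcqsP_of_iso ((CategoryTheory.Over.forget U).mapIso e) ?_
    exact isQcqsP_of_iso (CategoryTheory.Over.prodLeftIsoPullback (Y 0) (∏ᶜ fun k => Y (Fin.succ k)))
      (isQcqsP_pullback _ _ hU (hY 0) (ih _ fun k => hY _))

/-- Čech cohomology of a finite family with qcqs members commutes with filtered colimits of sheaves. -/
theorem preservesColimitsOfShape_cechHFunctor {X : Scheme.{u}} (U : X.ProEt) (hU : IsQcqsP U)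
    [HasFiniteProducts (Over U)] (ι : Type (u + 1)) [Finite ι] (Uf : ι → Over U)
    (hUf : ∀ i, IsQcqsP (Uf i).left) (q : ℕ) (I : Type (u + 1)) [SmallCategory I] [IsFiltered I] :
    PreservesColimitsOfShape I
      (sheafToPresheaf (Scheme.ProEt.topology X) AddCommGrpCat.{u + 1} ⋙ EtCech.cechHFunctor Uf q) := by
  let Φ : ProEtS.AbP X ⥤ CochainComplex AddCommGrpCat.{u + 1} ℕ :=
    sheafToPresheaf (Scheme.ProEt.topology X) AddCommGrpCat.{u + 1} ⋙
      (Functor.whiskeringLeft (Over U)ᵒᵖ X.ProEtᵒᵖ AddCommGrpCat.{u + 1}).obj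
        (CategoryTheory.Over.forget U).op ⋙ cechComplexFunctor Uf
  haveI : PreservesColimitsOfShape I Φ := HomologicalComplex.preservesColimitsOfShape_of_eval Φ fun n => by
    haveI : ∀ i : Fin (n + 1) → ι, PreservesColimitsOfShape I
        (sheafToPresheaf (Scheme.ProEt.topology X) AddCommGrpCat.{u + 1} ⋙
          (evaluation X.ProEtᵒᵖ AddCommGrpCat.{u + 1}).obj (op (∏ᶜ fun k => Uf (i k)).left)) := fun i =>
      preservesColimitsOfShape_sections_qcqs_ab _ (isQcqsP_prod hU n _ fun k => hUf _) I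
    haveI := EtFound.preservesColimitsOfShape_pi (I := I) fun i : Fin (n + 1) → ι =>
      sheafToPresheaf (Scheme.ProEt.topology X) AddCommGrpCat.{u + 1} ⋙
        (evaluation X.ProEtᵒᵖ AddCommGrpCat.{u + 1}).obj (op (∏ᶜ fun k => Uf (i k)).left)
    let G : (Fin (n + 1) → ι) → ProEtS.AbP X ⥤ AddCommGrpCat.{u + 1} := fun i =>
      sheafToPresheaf (Scheme.ProEt.topology X) AddCommGrpCat.{u + 1} ⋙
        (evaluation X.ProEtᵒᵖ AddCommGrpCat.{u + 1}).obj (op (∏ᶜ fun k => Uf (i k)).left)
    let e : (Discrete.functor G).flip ⋙ lim ≅ Φ ⋙ HomologicalComplex.eval _ _ n :=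
      NatIso.ofComponents
        (fun F => HasLimit.isoOfNatIso (Discrete.natIso fun ⟨i⟩ => Iso.refl ((G i).obj F)))
        (fun {F F'} φ => Pi.hom_ext _ _ fun i => by
          refine (Category.assoc _ _ _).trans (Eq.trans ?_ (Category.assoc _ _ _).symm)
          refine (congrArg (_ ≫ ·) (HasLimit.isoOfNatIso_hom_π _ (Discrete.mk i))).trans ?_
          refine (congrArg (_ ≫ ·) (Category.comp_id _)).trans ?_
          refine (limMap_π _ _).trans ?_
          refine Eq.trans ?_ (congrArg (_ ≫ ·)
            (Pi.map_π (fun i : Fin (n + 1) → ι => φ.hom.app (op (∏ᶜ fun k => Uf (i k)).left)) i)).symm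
          refine Eq.trans ?_ (Category.assoc _ _ _)
          exact (congrArg (· ≫ φ.hom.app _) ((HasLimit.isoOfNatIso_hom_π _ (Discrete.mk i)).trans (Category.comp_id _))).symm)
    exact preservesColimitsOfShape_of_natIso e
  haveI := FlatCxLib.preservesColimitsOfShape_complexHomology (C := AddCommGrpCat.{u + 1}) (J := I)
    (ComplexShape.up ℕ) q
  exact preservesColimitsOfShape_of_natIso
    (show Φ ⋙ HomologicalComplex.homologyFunctor _ _ q ≅ _ from Iso.refl _)

end Groth.Agent.ProCoh71
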